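import Cfsg.Agent.H119.Lim.Ex3
import Cfsg.Agent.H425.Lim.Pull
import Cfsg.Agent.H446.Lim.HomAcyclic

/-!
# Correcting a cocycle with values in `Hom(P/A, A)` modulo `K` (helper425, for S5242)
-/

set_option autoImplicit false

namespace Cfsg.Agent.H425.Lim

open MulAction Cfsg.Agent.H539.Lim
open Cfsg.Agent.H119.Lim (AllP CM KS kc const DA kval AllP_ordConnected AllP_isInv CM_isUpperSet CM_isInv)

universe u v w

section
variable {L : Type u} [Group L] {A : Subgroup L} {Ω : Type v} [MulAction L Ω]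

instance instCen : CommGroup ↥(Subgroup.center L) :=
  { (inferInstance : Group ↥(Subgroup.center L)) with
    mul_comm := fun a b => Subtype.ext (Subgroup.mem_center_iff.mp b.2 (a : L)) }

/-- evaluation at `u` -/
def evK {P : Subgroup L} (u : P) : (KS A).M P →+ Additive ↥(Subgroup.center L) where
  toFun f := f.1 u
  map_zero' := rfl
  map_add' _ _ := rfl

theorem evK_congr {k : ℕ} (b : ∀ x : Fin k → Ω, (KS A).M (st L x)) {x x' : Fin k → Ω} (h : x = x') {u : L}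
    (hu : u ∈ st L x) (hu' : u ∈ st L x') : evK ⟨u, hu⟩ (b x) = evK ⟨u, hu'⟩ (b x') := by
  subst h; rfl

theorem evK_res {P Q : Subgroup L} (h : P ≤ Q) (f : (KS A).M Q) {u : L} (hu : u ∈ P) :
    evK ⟨u, hu⟩ ((KS A).res h f) = evK ⟨u, h hu⟩ f := by
  exact congrArg f.1 (Subtype.ext (by simp))

theorem evK_dd {k : ℕ} (c : ∀ x : Fin k → Ω, (KS A).M (st L x)) (x : Fin (k + 1) → Ω) {u : L} (hu : u ∈ st L x) :
    evK ⟨u, hu⟩ ((KS A).dd c x) = ∑ i : Fin (k + 1), ((-1 : ℤ) ^ (i : ℕ)) •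
      evK ⟨u, Coef.st_succAbove_le L x i hu⟩ (c (fun j => x (i.succAbove j))) := by
  rw [Coef.dd, map_sum]
  refine Finset.sum_congr rfl fun i _ => ?_
  rw [map_zsmul, evK_res]

theorem mem_stab {k : ℕ} {x : Fin k → Ω} {u : L} (hu : u ∈ st L x) (i : Fin k) : u ∈ stabilizer L (x i) := by
  rw [mem_stabilizer_iff] at hu ⊢
  exact congrFun hu i

theorem mem_st {k : ℕ} {x : Fin k → Ω} {u : L} (hu : ∀ i, u ∈ stabilizer L (x i)) : u ∈ st L x := by
  rw [mem_stabilizer_iff]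
  funext i
  exact hu i

theorem sign_four {M : Type u} [AddCommGroup M] (a b c d : M) :
    ((-1 : ℤ) ^ 0) • a + ((-1 : ℤ) ^ 1) • b + ((-1 : ℤ) ^ 2) • c + ((-1 : ℤ) ^ 3) • d = a - b + c - d := by
  norm_num
  abel

theorem sign_three {M : Type u} [AddCommGroup M] (a b c : M) :
    ((-1 : ℤ) ^ 0) • a + ((-1 : ℤ) ^ 1) • b + ((-1 : ℤ) ^ 2) • c = a - b + c := by
  norm_num
  abel

theorem abel_four {M : Type u} [AddCommGroup M] (a b c d e f : M) :
    (a + b - c) - (d + b - e) + (f + c - e) - (f + a - d) = 0 := by abel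

theorem exists_correct_of {p : ℕ} (hΩ : PSet p L Ω) (hA : A ≤ Subgroup.center L)
    (hAst : ∀ x : Ω, A ≤ stabilizer L x) (hvan : (KS A).Van Ω (AllP p A) 2) (e : Ω → Ω → L → L)
    (he : ∀ x y, ∀ u ∈ stabilizer L x ⊓ stabilizer L y, e x y u ∈ A)
    (heq : ∀ (l : L) x y, ∀ u ∈ stabilizer L x ⊓ stabilizer L y, e (l • x) (l • y) (l * u * l⁻¹) = e x y u)
    (hcoc : ∀ x y z, ∃ c : L, (∀ u ∈ stabilizer L x ⊓ stabilizer L y ⊓ stabilizer L z, c * u * c⁻¹ * u⁻¹ ∈ A) ∧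
      ∀ u ∈ stabilizer L x ⊓ stabilizer L y ⊓ stabilizer L z,
        e x y u * e y z u = e x z u * (c * u * c⁻¹ * u⁻¹)) :
    ∃ c : Ω → Ω → L, (∀ x y, ∀ u ∈ stabilizer L x ⊓ stabilizer L y, c x y * u * (c x y)⁻¹ * u⁻¹ ∈ A) ∧
      (∀ (l : L) x y, ∀ u ∈ stabilizer L x ⊓ stabilizer L y,
        c (l • x) (l • y) * (l * u * l⁻¹) * (c (l • x) (l • y))⁻¹ * (l * u * l⁻¹)⁻¹ =
          c x y * u * (c x y)⁻¹ * u⁻¹) ∧
      ∀ x y z, ∀ u ∈ stabilizer L x ⊓ stabilizer L y ⊓ stabilizer L z,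
        (e x y u * (c x y * u * (c x y)⁻¹ * u⁻¹)) * (e y z u * (c y z * u * (c y z)⁻¹ * u⁻¹)) =
          e x z u * (c x z * u * (c x z)⁻¹ * u⁻¹) := by
  classical
  -- the values of `e` in the centre
  let E : ∀ (x y : Ω) (u : L), Additive ↥(Subgroup.center L) := fun x y u =>
    if h : e x y u ∈ Subgroup.center L then Additive.ofMul ⟨e x y u, h⟩ else 0
  have hE : ∀ x y u, u ∈ stabilizer L x → u ∈ stabilizer L y →
      (((Additive.toMul (E x y u)) : ↥(Subgroup.center L)) : L) = e x y u := by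
    intro x y u h1 h2
    have h3 := hA (he x y u ⟨h1, h2⟩)
    show (((Additive.toMul (if h : e x y u ∈ Subgroup.center L then Additive.ofMul ⟨e x y u, h⟩ else 0)) :
      ↥(Subgroup.center L)) : L) = e x y u
    rw [dif_pos h3]; rfl
  have hEeq : ∀ (l : L) x y u, u ∈ stabilizer L x → u ∈ stabilizer L y →
      E (l • x) (l • y) (l * u * l⁻¹) = E x y u := by
    intro l x y u h1 h2
    show (if h : e (l • x) (l • y) (l * u * l⁻¹) ∈ Subgroup.center L then _ else _) = (if h : e x y u ∈ _ then _ else _)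
    have := heq l x y u ⟨h1, h2⟩
    simp only [this]
  -- the 2-cocycle
  have hκ : ∀ x : Fin 3 → Ω, ∃ f : (KS A).M (st L x), ∀ u (hu : u ∈ st L x),
      evK ⟨u, hu⟩ f = E (x 0) (x 1) u + E (x 1) (x 2) u - E (x 0) (x 2) u := by
    intro x
    obtain ⟨c, hc1, hc2⟩ := hcoc (x 0) (x 1) (x 2)
    have hval : ∀ u, u ∈ st L x →
        (((Additive.toMul (E (x 0) (x 1) u + E (x 1) (x 2) u - E (x 0) (x 2) u)) : ↥(Subgroup.center L)) : L) =
          kc c u := by
      intro u hu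
      have h0 := mem_stab hu 0
      have h1 := mem_stab hu 1
      have h2 := mem_stab hu 2
      have e1 := hE _ _ _ h0 h1
      have e2 := hE _ _ _ h1 h2
      have e3 := hE _ _ _ h0 h2
      have h3 := hc2 u ⟨⟨h0, h1⟩, h2⟩
      show (((Additive.toMul (E (x 0) (x 1) u) * Additive.toMul (E (x 1) (x 2) u) / Additive.toMul (E (x 0) (x 2) u)) :
        ↥(Subgroup.center L)) : L) = c * u * c⁻¹ * u⁻¹
      rw [Subgroup.coe_div, Subgroup.coe_mul, e1, e2, e3, h3, div_eq_mul_inv,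
        Subgroup.mem_center_iff.mp (hA (hc1 u ⟨⟨h0, h1⟩, h2⟩)) (e (x 0) (x 2) u)]
      group
    refine ⟨⟨fun u => E (x 0) (x 1) u + E (x 1) (x 2) u - E (x 0) (x 2) u, c, fun u hu => ?_, fun u => hval u u.2⟩,
      fun u hu => rfl⟩
    exact hc1 u ⟨⟨mem_stab hu 0, mem_stab hu 1⟩, mem_stab hu 2⟩
  choose κ hκv using hκ
  have hcoch : (KS A).IsCoch (AllP p A) κ := by
    refine ⟨fun g x => ?_, fun x hx => absurd (st_mem_VV hΩ hAst x) hx⟩
    apply Subtype.ext
    funext ⟨u, hu⟩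
    have h1 : g * u * g⁻¹ ∈ st L (g • x) := Coef.conj_st L g x u hu
    refine (hκv (g • x) (g * u * g⁻¹) h1).trans ((hκv x u hu).trans ?_).symm
    have h0 := mem_stab hu 0
    have h1 := mem_stab hu 1
    have h2 := mem_stab hu 2
    rw [← hEeq g _ _ _ h0 h1, ← hEeq g _ _ _ h1 h2, ← hEeq g _ _ _ h0 h2]
    rfl
  have hcocyc : (KS A).IsCoc (AllP p A) κ := by
    intro x _
    apply Subtype.ext
    funext ⟨u, hu⟩
    refine (evK_dd κ x hu).trans ?_
    rw [Fin.sum_univ_four]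
    rw [hκv, hκv, hκv, hκv]
    refine Eq.trans (sign_four (E (x 1) (x 2) u + E (x 2) (x 3) u - E (x 1) (x 3) u)
      (E (x 0) (x 2) u + E (x 2) (x 3) u - E (x 0) (x 3) u) (E (x 0) (x 1) u + E (x 1) (x 3) u - E (x 0) (x 3) u)
      (E (x 0) (x 1) u + E (x 1) (x 2) u - E (x 0) (x 2) u)) ?_
    exact abel_four _ _ _ _ _ _
  obtain ⟨b, hb, hbκ⟩ := hvan κ hcoch hcocyc
  -- the correcting elements
  have hc := fun x y : Ω => H119.Lim.exists_kc (-(b ![x, y]))
  choose c hc1 hc2 using hc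
  have hst2 : ∀ {x y : Ω} {u : L}, u ∈ stabilizer L x → u ∈ stabilizer L y → u ∈ st L ![x, y] := by
    intro x y u h1 h2
    refine mem_st fun i => ?_
    fin_cases i
    · exact h1
    · exact h2
  have hc3 : ∀ x y u (h1 : u ∈ stabilizer L x) (h2 : u ∈ stabilizer L y),
      (((Additive.toMul (-(evK ⟨u, hst2 h1 h2⟩ (b ![x, y])))) : ↥(Subgroup.center L)) : L) =
        c x y * u * (c x y)⁻¹ * u⁻¹ := fun x y u h1 h2 => hc2 x y ⟨u, hst2 h1 h2⟩
  refine ⟨c, fun x y u hu => hc1 x y u (hst2 hu.1 hu.2), ?_, ?_⟩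
  · intro l x y u hu
    have h1 : l * u * l⁻¹ ∈ stabilizer L (l • x) := by
      have : u ∈ stabilizer L x := hu.1
      rw [mem_stabilizer_iff] at this ⊢
      calc (l * u * l⁻¹) • l • x = l • u • x := by rw [smul_smul, smul_smul]; congr 1; group
        _ = l • x := by rw [this]
    have h2 : l * u * l⁻¹ ∈ stabilizer L (l • y) := by
      have : u ∈ stabilizer L y := hu.2
      rw [mem_stabilizer_iff] at this ⊢
      calc (l * u * l⁻¹) • l • y = l • u • y := by rw [smul_smul, smul_smul]; congr 1; group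
        _ = l • y := by rw [this]
    rw [← hc3 (l • x) (l • y) (l * u * l⁻¹) h1 h2, ← hc3 x y u hu.1 hu.2]
    have h3 := hb.equiv l ![x, y]
    have h4 : l • ![x, y] = ![l • x, l • y] := by
      funext i
      fin_cases i <;> rfl
    have h5 : evK ⟨l * u * l⁻¹, hst2 h1 h2⟩ (b ![l • x, l • y]) = evK ⟨u, hst2 hu.1 hu.2⟩ (b ![x, y]) := by
      rw [← h3]
      exact evK_congr b h4.symm _ _
    rw [h5]
  · intro x y z u hu
    have hx := hu.1.1
    have hy := hu.1.2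
    have hz := hu.2
    have hu3 : u ∈ st L ![x, y, z] := by
      refine mem_st fun i => ?_
      fin_cases i
      · exact hx
      · exact hy
      · exact hz
    have h1 := congrArg (evK ⟨u, hu3⟩) (hbκ ![x, y, z] (st_mem_VV hΩ hAst _))
    rw [hκv, evK_dd, Fin.sum_univ_three] at h1
    have h2 : E x y u + E y z u - E x z u = evK ⟨u, hst2 hy hz⟩ (b ![y, z]) - evK ⟨u, hst2 hx hz⟩ (b ![x, z]) +
        evK ⟨u, hst2 hx hy⟩ (b ![x, y]) := by
      refine h1.trans (Eq.trans ?_ (sign_three _ _ _))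
      refine congrArg₂ (· + ·) (congrArg₂ (· + ·) ?_ ?_) ?_
      · refine congrArg (fun t => ((-1 : ℤ) ^ 0) • t) (evK_congr b ?_ _ _)
        funext i; fin_cases i <;> rfl
      · refine congrArg (fun t => ((-1 : ℤ) ^ 1) • t) (evK_congr b ?_ _ _)
        funext i; fin_cases i <;> rfl
      · refine congrArg (fun t => ((-1 : ℤ) ^ 2) • t) (evK_congr b ?_ _ _)
        funext i; fin_cases i <;> rfl
    rw [← hc3 x y u hx hy, ← hc3 y z u hy hz, ← hc3 x z u hx hz, ← hE x y u hx hy, ← hE y z u hy hz,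
      ← hE x z u hx hz]
    generalize evK ⟨u, hst2 hx hy⟩ (b ![x, y]) = X at h2 ⊢
    generalize evK ⟨u, hst2 hy hz⟩ (b ![y, z]) = Y at h2 ⊢
    generalize evK ⟨u, hst2 hx hz⟩ (b ![x, z]) = W at h2 ⊢
    have h3 : (E x y u + -X) + (E y z u + -Y) = E x z u + -W := by
      have e1 : (E x y u + -X) + (E y z u + -Y) = (E x y u + E y z u - E x z u) + (E x z u - X - Y) := by abel
      rw [e1, h2]; abel
    exact congrArg (fun t : Additive ↥(Subgroup.center L) => ((Additive.toMul t : ↥(Subgroup.center L)) : L)) h3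

theorem kc_inv_left {c u : L} (h : kc c u ∈ Subgroup.center L) : kc c⁻¹ u = (kc c u)⁻¹ := by
  have h3 : kc (c⁻¹ * c) u = kc c⁻¹ u * kc c u := H119.Lim.kc_mul_left h
  rw [inv_mul_cancel, H119.Lim.kc_one_left] at h3
  exact eq_inv_of_mul_eq_one_left h3.symm

/-- Theorem E from `H²(K) = 0` -/
theorem thmE_of {p : ℕ} [Fact p.Prime] [Finite L] [Finite Ω]
    (hΩ : PSet p L Ω) (hA : A ≤ Subgroup.center L) (hAp : IsPGroup p A)
    (hAst : ∀ x : Ω, A ≤ stabilizer L x) (hvan : (KS A).Van Ω (AllP p A) 2) (e : Ω → Ω → L → L)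
    (he : ∀ x y, ∀ u ∈ stabilizer L x ⊓ stabilizer L y, e x y u ∈ A)
    (hmul : ∀ x y, ∀ u ∈ stabilizer L x ⊓ stabilizer L y, ∀ w ∈ stabilizer L x ⊓ stabilizer L y,
      e x y (u * w) = e x y u * e x y w)
    (heA : ∀ x y, ∀ u ∈ A, e x y u = 1)
    (heq : ∀ (l : L) x y, ∀ u ∈ stabilizer L x ⊓ stabilizer L y, e (l • x) (l • y) (l * u * l⁻¹) = e x y u)
    (hcoc : ∀ x y z, ∃ c : L, (∀ u ∈ stabilizer L x ⊓ stabilizer L y ⊓ stabilizer L z, c * u * c⁻¹ * u⁻¹ ∈ A) ∧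
      ∀ u ∈ stabilizer L x ⊓ stabilizer L y ⊓ stabilizer L z,
        e x y u * e y z u = e x z u * (c * u * c⁻¹ * u⁻¹)) :
    ∃ v : Ω → L → L, (∀ x, ∀ u ∈ stabilizer L x, v x u ∈ A) ∧
      (∀ x, ∀ u ∈ stabilizer L x, ∀ w ∈ stabilizer L x, v x (u * w) = v x u * v x w) ∧
      (∀ x, ∀ u ∈ A, v x u = 1) ∧
      (∀ (l : L) x, ∀ u ∈ stabilizer L x, v (l • x) (l * u * l⁻¹) = v x u) ∧
      ∀ x y, ∃ c : L, (∀ u ∈ stabilizer L x ⊓ stabilizer L y, c * u * c⁻¹ * u⁻¹ ∈ A) ∧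
        ∀ u ∈ stabilizer L x ⊓ stabilizer L y, e x y u * v x u = v y u * (c * u * c⁻¹ * u⁻¹) := by
  obtain ⟨c, hc1, hc2, hc3⟩ := exists_correct_of hΩ hA hAst hvan e he heq hcoc
  obtain ⟨v, hv1, hv2, hv3, hv4, hv5⟩ := H446.Lim.hom_acyclic hΩ A hA hAp hAst
    (fun x y u => e x y u * kc (c x y) u)
    (fun x y u hu => A.mul_mem (he x y u hu) (hc1 x y u hu))
    (fun x y u hu w hw => by
      show e x y (u * w) * kc (c x y) (u * w) = e x y u * kc (c x y) u * (e x y w * kc (c x y) w)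
      rw [hmul x y u hu w hw, H119.Lim.kc_mul_right (hA (hc1 x y w hw))]
      have h1 := Subgroup.mem_center_iff.mp (hA (he x y w hw)) (kc (c x y) u)
      calc e x y u * e x y w * (kc (c x y) u * kc (c x y) w)
          = e x y u * (e x y w * kc (c x y) u) * kc (c x y) w := by group
        _ = e x y u * (kc (c x y) u * e x y w) * kc (c x y) w := by rw [h1]
        _ = e x y u * kc (c x y) u * (e x y w * kc (c x y) w) := by group)
    (fun x y u hu => by
      show e x y u * kc (c x y) u = 1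
      rw [heA x y u hu, H119.Lim.kc_eq_one.mpr (Subgroup.mem_center_iff.mp (hA hu) (c x y)), one_mul])
    (fun l x y u hu => by
      show e (l • x) (l • y) (l * u * l⁻¹) * kc (c (l • x) (l • y)) (l * u * l⁻¹) = e x y u * kc (c x y) u
      rw [heq l x y u hu]
      exact congrArg _ (hc2 l x y u hu))
    (fun x y z u hu => hc3 x y z u hu)
  refine ⟨v, hv1, hv2, hv3, hv4, fun x y => ⟨(c x y)⁻¹, fun u hu => ?_, fun u hu => ?_⟩⟩
  · have := A.inv_mem (hc1 x y u hu)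
    have h2 := kc_inv_left (hA (hc1 x y u hu))
    show kc (c x y)⁻¹ u ∈ A
    rw [h2]; exact this
  · show e x y u * v x u = v y u * kc (c x y)⁻¹ u
    have h1 : e x y u * kc (c x y) u * v x u = v y u := hv5 x y u hu
    rw [kc_inv_left (hA (hc1 x y u hu)), ← h1]
    have h2 := Subgroup.mem_center_iff.mp (hA (hc1 x y u hu)) (v x u)
    calc e x y u * v x u = e x y u * (v x u * kc (c x y) u) * (kc (c x y) u)⁻¹ := by group
      _ = e x y u * (kc (c x y) u * v x u) * (kc (c x y) u)⁻¹ := by rw [show v x u * kc (c x y) u = kc (c x y) u * v x u from h2]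
      _ = e x y u * kc (c x y) u * v x u * (kc (c x y) u)⁻¹ := by group

end

end Cfsg.Agent.H425.Lim
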