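import Cfsg.Agent.H425.Lim.Pull
import Cfsg.Agent.H473.Lim.Coef
import Cfsg.Agent.H118.Lim.Local
import Cfsg.Agent.H234.Lim.Comp
import Cfsg.Agent.H95.Lim.Local
import Cfsg.Agent.H486.Lim.Disjoint

/-!
# A vanishing theorem: collections of `p`-subgroups `P` with a `p`-element outside `P` centralizing `P` modulo `A`
(helper425, for S5242)
-/

set_option autoImplicit false

namespace Cfsg.Agent.H425.Lim

open MulAction Cfsg.Agent.H539.Lim

universe u v w

/-- the local problem at `P` in terms of the module `C.M P` -/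
theorem van_loc {G : Type u} [Group G] {Ω : Type v} [MulAction G Ω] (C : Coef.{u, w} G) (P : Subgroup G)
    {V : Set (Subgroup ↥(Nz P))} (hVi : IsInv V) (hV : ∀ Q ∈ V, Q.map (Nz P).subtype = P) {n : ℕ}
    (h : Van ↥(Nz P) (FixPt P Ω) (Loc C P) V n) : (C.restr (Nz P)).Van (FixPt P Ω) V n := by
  have hfix : ∀ Q : Subgroup ↥(Nz P), Q.map (Nz P).subtype = P → ∀ m : Loc C P, m ∈ DFix Q (Loc C P) := by
    intro Q hQ m u hu
    have h1 : (u : G)⁻¹ ∈ P := P.inv_mem (hQ.le (Subgroup.mem_map_of_mem (Nz P).subtype hu))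
    exact C.τ_inner P _ h1 _ m
  have hV' : V.OrdConnected := by
    refine ⟨fun P₁ h1 P₂ h2 Q hQ => ?_⟩
    have e : Q = P₁ := by
      apply le_antisymm _ hQ.1
      have h3 : P₂.map (Nz P).subtype = P₁.map (Nz P).subtype := by rw [hV _ h1, hV _ h2]
      have h4 : P₂ = P₁ := Subgroup.map_injective (Nz P).subtype_injective h3
      rw [← h4]; exact hQ.2
    rw [e]; exact h1
  refine H234.Lim.Coef.van_of_mod (C.restr (Nz P)) (D := Loc C P) hV' hVi (fun Q hQ =>
    { toFun := fun m => ⟨castM C (hV Q hQ) m, hfix Q (hV Q hQ) _⟩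
      invFun := fun m => (castM C (hV Q hQ)).symm m.1
      left_inv := fun m => (castM C (hV Q hQ)).symm_apply_apply m
      right_inv := fun m => Subtype.ext ((castM C (hV Q hQ)).apply_symm_apply m.1)
      map_add' := fun a b => Subtype.ext (map_add (castM C (hV Q hQ)) a b) }) ?_ h
  intro g P₁ Q₁ h1 hP hQ m
  show castM C (hV P₁ hP) (C.τ (g : G) (P₁.map (Nz P).subtype) (Q₁.map (Nz P).subtype) _ m) =
    locMap C P g⁻¹ (castM C (hV Q₁ hQ) m)
  have h2 : ∀ u ∈ P, (g : G) * u * (g : G)⁻¹ ∈ P := by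
    intro u hu
    have := conj_mem g⁻¹ u hu
    simpa using this
  exact (castM_tau C (hV P₁ hP) (hV Q₁ hQ) (g : G) _ h2 m).trans (tau_congr C (by simp) _ _ _)

theorem van_NN {p : ℕ} [Fact p.Prime] {G : Type u} [Group G] [Finite G] {Ω : Type v} [MulAction G Ω] [Finite Ω]
    (hΩ : PSet p G Ω) (C : Coef.{u, w} G) (A : Subgroup G) (hAc : A ≤ Subgroup.center G) {V : Set (Subgroup G)}
    (hV : V.OrdConnected) (hVi : IsInv V) (hVp : ∀ P ∈ V, IsPGroup p P) (hVA : ∀ P ∈ V, A ≤ P)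
    (hN : ∀ P ∈ V, ∃ u : G, u ∉ P ∧ (∃ k : ℕ, u ^ (p ^ k) = 1) ∧ ∀ v ∈ P, u * v * u⁻¹ * v⁻¹ ∈ A)
    (hfin : ∀ P ∈ V, Finite (C.M P)) (htor : ∀ P ∈ V, IsPTors p (C.M P))
    (htriv : ∀ P ∈ V, ∀ c : G, (∀ v ∈ P, c * v * c⁻¹ * v⁻¹ ∈ A) → ∀ (h : ∀ u ∈ P, c * u * c⁻¹ ∈ P) (m : C.M P),
      C.τ c P P h m = m) (n : ℕ) : C.Van Ω V n := by
  have hinvcard : ∀ (g : G) (P : Subgroup G), Nat.card (cj g P) = Nat.card P := fun g P =>
    Nat.card_congr (P.equivMapOfInjective _ (MulAut.conj g).injective).symm.toEquiv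
  refine H473.Lim.Coef.van_of_filt C hV hVi (fun P => Nat.card P) ?_ (fun g P _ => hinvcard g P) n ?_
  · intro P _ Q _ hPQ
    exact Nat.card_le_card_of_injective _ (Subgroup.inclusion_injective hPQ)
  · intro i
    have hVi' : IsInv {P | P ∈ V ∧ Nat.card P = i} := fun g P hP => ⟨hVi g P hP.1, (hinvcard g P).trans hP.2⟩
    refine H118.Lim.Coef.van_of_local C hΩ hVi' (fun P => P) (fun P _ => le_rfl) (fun _ _ _ => rfl) ?_ n ?_
    · rintro P ⟨hP, hPi⟩ Q ⟨hQ, hQi⟩ hPQ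
      exact Subgroup.eq_of_le_of_card_ge hPQ (by rw [hPi, hQi])
    · rintro P ⟨hP, hPi⟩
      have hVV : IsInv {Q : Subgroup ↥(Nz P) | Q.map (Nz P).subtype ∈ {P | P ∈ V ∧ Nat.card P = i} ∧
          Q.map (Nz P).subtype = P} := by
        rintro g Q ⟨_, hQ2⟩
        have e := mapNz_conj g hQ2
        exact ⟨by rw [e]; exact ⟨hP, hPi⟩, e⟩
      apply van_loc C P hVV (fun Q hQ => hQ.2)
      have : Finite (Loc C P) := hfin P hP
      have hYn : (P.subgroupOf (Nz P)).Normal := inferInstance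
      have hCn := cenMod_normal A hAc P
      have hVord : {Q : Subgroup ↥(Nz P) | Q.map (Nz P).subtype ∈ {P | P ∈ V ∧ Nat.card P = i} ∧
          Q.map (Nz P).subtype = P}.OrdConnected := by
        refine ⟨fun P₁ h1 P₂ h2 Q hQ => ?_⟩
        have e : Q = P₁ := by
          apply le_antisymm _ hQ.1
          have h3 : P₂.map (Nz P).subtype = P₁.map (Nz P).subtype := by rw [h1.2, h2.2]
          have h4 : P₂ = P₁ := Subgroup.map_injective (Nz P).subtype_injective h3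
          rw [← h4]; exact hQ.2
        rw [e]; exact h1
      refine H486.Lim.van_disjoint (p := p) (D := Loc C P) (H95.Lim.pset_fixPt hΩ P (hVp P hP)) (htor P hP)
        (P.subgroupOf (Nz P)) (cenMod A P) ?_ ?_ ?_ hVord hVV ?_ n
      · intro x u hu
        rw [mem_stabilizer_iff]
        apply Subtype.ext
        exact x.2 hu
      · intro c hc d
        have hc' : ∀ v ∈ P, (c : G)⁻¹ * v * (c : G)⁻¹⁻¹ * v⁻¹ ∈ A := (cenMod A P).inv_mem hc
        exact htriv P hP _ hc' (conj_mem c) d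
      · obtain ⟨u, hu1, ⟨k, hk⟩, hu3⟩ := hN P hP
        have hun : u ∈ Nz P := by
          have h1 : ∀ w : G, (∀ v ∈ P, w * v * w⁻¹ * v⁻¹ ∈ A) → ∀ v ∈ P, w * v * w⁻¹ ∈ P := by
            intro w hw v hv
            have := P.mul_mem (hVA P hP (hw v hv)) hv
            simpa using this
          have h2 : ∀ v ∈ P, u⁻¹ * v * u⁻¹⁻¹ * v⁻¹ ∈ A := by
            intro v hv
            have h3 := hu3 v hv
            have h4 := Subgroup.mem_center_iff.mp (hAc h3) u
            have e : u⁻¹ * v * u⁻¹⁻¹ * v⁻¹ = u⁻¹ * (u * v * u⁻¹ * v⁻¹)⁻¹ * u := by group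
            rw [e]
            have h5 : u⁻¹ * (u * v * u⁻¹ * v⁻¹)⁻¹ * u = (u * v * u⁻¹ * v⁻¹)⁻¹ := by
              have h6 := Subgroup.mem_center_iff.mp (Subgroup.inv_mem _ (hAc h3)) u⁻¹
              rw [h6]; group
            rw [h5]; exact A.inv_mem h3
          rw [Subgroup.mem_normalizer_iff]
          intro v
          refine ⟨h1 u hu3 v, fun hv => ?_⟩
          have := h1 u⁻¹ h2 _ hv
          have e : u⁻¹ * (u * v * u⁻¹) * u⁻¹⁻¹ = v := by group
          rwa [e] at this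
        refine ⟨⟨u, hun⟩, hu3, ⟨k, Subtype.ext hk⟩, ?_⟩
        intro h
        exact hu1 (Subgroup.mem_subgroupOf.mp h)
      · rintro Q ⟨_, hQ⟩ u ⟨hu, _⟩
        rw [Subgroup.mem_subgroupOf]
        exact hQ.le (Subgroup.mem_map_of_mem (Nz P).subtype hu)

end Cfsg.Agent.H425.Lim
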